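import Groth.Agent.H56.LCI.GenReg
import Groth.Agent.S2200
import Groth.Agent.S7131
import Groth.Agent.Lib.Regular.Serre
import Groth.Agent.H54.TorPoly
import Groth.Agent.H54.TorDimHom
import Mathlib.RingTheory.MvPolynomial.Basic
import Mathlib.RingTheory.Smooth.Basic
import Mathlib.LinearAlgebra.TensorProduct.Quotient

/-!
Cancellation of local complete intersection ring maps along a factor of finite tor dimension.
-/

set_option autoImplicit false
set_option linter.style.haveILetI false

universe u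

open RingTheory.Sequence IsLocalRing
open Groth.Agent.Lib Groth.Agent.Lib.DR
open Groth.Agent.Lib.DR.Basic Groth.Agent.Lib.DR.FiniteComplex Groth.Agent.Lib.DR.PseudoCoherent
open Groth.Agent.Lib.DR.BaseChange
open Groth.Agent.Lib.Synt92 Groth.Agent.Lib.Synt92.KRLoc
open scoped TensorProduct

attribute [local instance] HasDerivedCategory.standard

namespace Groth.Agent.H56.LCI.Cancel

/-- Tor dimension only depends on the module up to isomorphism. -/
theorem hasFiniteTorDim_congr {D : Type u} [CommRing D] {M N : Type u} [AddCommGroup M] [Module D M]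
    [AddCommGroup N] [Module D N] (e : M ≃ₗ[D] N) (h : DRing.HasFiniteTorDim D M) :
    DRing.HasFiniteTorDim D N := by
  obtain ⟨d, hd⟩ := h
  exact ⟨d, (TorDim.hasTorDimLE_iff N d).2 (((TorDim.hasTorDimLE_iff M d).1 hd).of_iso
    ((DerivedCategory.singleFunctor _ 0).mapIso e.toModuleIso))⟩

/-- The step at a prime, for abstract presentations. -/
theorem quotient_step {P T : Type u} [CommRing P] [CommRing T] [IsNoetherianRing P] [IsNoetherianRing T]
    (π : P →+* T) (hπ : Function.Surjective π) (J : Ideal P) (hIJ : RingHom.ker π ≤ J)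
    (Q' : Ideal T) [Q'.IsPrime] (hJQ : J ≤ Q'.comap π) {s : ℕ} (hgen : GenLoc s J (Q'.comap π))
    (hfd : ∀ (D : Type u) [CommRing D] [Algebra T D] [IsLocalization.AtPrime D Q'],
      DRing.HasFiniteTorDim D (D ⊗[T] (T ⧸ J.map π))) :
    (∃ k, GenLoc k (J.map π) Q') ∧
      ∃ rsI : List (Localization.AtPrime (Q'.comap π)),
        Ideal.ofList rsI = (RingHom.ker π).map (algebraMap P (Localization.AtPrime (Q'.comap π))) ∧
          IsRegular (Localization.AtPrime (Q'.comap π)) rsI := by
  let Q : Ideal P := Q'.comap π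
  let I' : Ideal P := RingHom.ker π
  let L := Localization.AtPrime Q
  obtain ⟨rs, hrs, hreg⟩ := GenReg.exists_regular_of_genLoc hJQ hgen
  have hM : Q.primeCompl.map π = Q'.primeCompl := by
    ext z
    constructor
    · rintro ⟨c, hc, rfl⟩
      exact hc
    · intro hz
      obtain ⟨c, rfl⟩ := hπ z
      exact ⟨c, hz, rfl⟩
  haveI : IsLocalization (Q.primeCompl.map π) (Localization.AtPrime Q') := by
    rw [hM]; infer_instance
  let φL : L →+* Localization.AtPrime Q' :=
    IsLocalization.map (M := Q.primeCompl) (T := Q.primeCompl.map π) (Localization.AtPrime Q') π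
      Q.primeCompl.le_comap_map
  have hφL : Function.Surjective φL :=
    IsLocalization.map_surjective_of_surjective Q.primeCompl L (Localization.AtPrime Q') hπ
  have hkL : RingHom.ker φL = I'.map (algebraMap P L) :=
    IsLocalization.ker_map (Localization.AtPrime Q') π rfl
  let IL : Ideal (Localization.AtPrime Q) := I'.map (algebraMap P L)
  let JL : Ideal (Localization.AtPrime Q) := J.map (algebraMap P L)
  have hILJL : IL ≤ JL := Ideal.map_mono hIJ
  have hJL : JL ≠ ⊤ := ne_top_of_le_ne_top (maximalIdeal.isMaximal L).ne_top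
    ((Ideal.map_mono hJQ).trans Localization.AtPrime.map_eq_maximalIdeal.le)
  let D := Localization.AtPrime Q ⧸ IL
  let e : D ≃+* Localization.AtPrime Q' :=
    (Ideal.quotEquivOfEq hkL.symm).trans (RingHom.quotientKerEquivOfSurjective hφL)
  letI : Algebra T D := (e.symm.toRingHom.comp (algebraMap T (Localization.AtPrime Q'))).toAlgebra
  haveI : IsLocalization.AtPrime D Q' :=
    IsLocalization.isLocalization_of_algEquiv Q'.primeCompl
      ({ e.symm with commutes' := fun _ => rfl } : Localization.AtPrime Q' ≃ₐ[T] D)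
  have hcomp : (algebraMap T D).comp π = (Ideal.Quotient.mk IL).comp (algebraMap P L) := by
    refine RingHom.ext fun p => e.injective ?_
    change e (e.symm (algebraMap T _ (π p))) = e (Ideal.Quotient.mk IL (algebraMap P L p))
    rw [e.apply_symm_apply]
    exact (IsLocalization.map_eq (T := Q.primeCompl.map π) (Q := Localization.AtPrime Q') Q.primeCompl.le_comap_map p).symm
  letI : Algebra D (L ⧸ JL) := (Ideal.Quotient.factor hILJL).toAlgebra
  haveI : IsScalarTower L D (L ⧸ JL) := ⟨fun a d c => by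
    obtain ⟨d, rfl⟩ := Ideal.Quotient.mk_surjective d
    obtain ⟨c, rfl⟩ := Ideal.Quotient.mk_surjective c
    change Ideal.Quotient.mk JL (a * d * c) = Ideal.Quotient.mk JL (a * (d * c))
    rw [mul_assoc]⟩
  -- finite tor dimension
  have hKmap : (J.map π).map (algebraMap T D) = JL.map (Ideal.Quotient.mk IL) := by
    rw [Ideal.map_map, hcomp, ← Ideal.map_map]
  have hker : LinearMap.ker (Algebra.linearMap D (L ⧸ JL)) = JL.map (Ideal.Quotient.mk IL) := by
    ext x
    obtain ⟨x, rfl⟩ := Ideal.Quotient.mk_surjective x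
    rw [LinearMap.mem_ker, Ideal.mem_map_iff_of_surjective _ Ideal.Quotient.mk_surjective]
    constructor
    · intro hx
      exact ⟨x, Ideal.Quotient.eq_zero_iff_mem.1 hx, rfl⟩
    · rintro ⟨y, hy, hyx⟩
      change Ideal.Quotient.factor hILJL (Ideal.Quotient.mk IL x) = 0
      rw [← hyx]
      exact Ideal.Quotient.eq_zero_iff_mem.2 hy
  have hsurjD : Function.Surjective (Algebra.linearMap D (L ⧸ JL)) := fun z => by
    obtain ⟨z, rfl⟩ := Ideal.Quotient.mk_surjective z
    exact ⟨Ideal.Quotient.mk IL z, rfl⟩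
  have hfdL : DRing.HasFiniteTorDim D (L ⧸ JL) := by
    refine hasFiniteTorDim_congr ?_ (hfd D)
    exact (Algebra.TensorProduct.quotIdealMapEquivTensorQuot D (J.map π)).toLinearEquiv.symm ≪≫ₗ
      Submodule.quotEquivOfEq _ _ (hKmap.trans hker.symm) ≪≫ₗ
        (Algebra.linearMap D (L ⧸ JL)).quotKerEquivOfSurjective hsurjD
  obtain ⟨⟨rsI, hrsI, hregI⟩, ⟨rs', hrs', hreg'⟩⟩ :=
    Groth.Agent.S2200.result IL JL hILJL hJL hfdL ⟨rs, hrs, hreg⟩
  refine ⟨GenReg.genLoc_of_regular _ Q' (rs'.map e) ?_ ?_, rsI, hrsI, hregI⟩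
  · refine (e.toAddEquiv.isWeaklyRegular_congr ?_).1 hreg'.toIsWeaklyRegular
    rw [List.forall₂_map_right_iff, List.forall₂_same]
    intro r _ x
    exact map_mul e r x
  · change Ideal.ofList (rs'.map e.toRingHom) = _
    rw [← Ideal.map_ofList, hrs', ← hKmap, Ideal.map_map]
    congr 1
    exact RingHom.ext fun t => e.apply_symm_apply _

/-- Descent along a flat map. -/
theorem descend_step {P₀ P : Type u} [CommRing P₀] [CommRing P] [IsNoetherianRing P₀] [Algebra P₀ P]
    [Module.Flat P₀ P] (I₀ : Ideal P₀) (Q : Ideal P) [Q.IsPrime]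
    (hI₀ : I₀.map (algebraMap P₀ P) ≤ Q) (rsI : List (Localization.AtPrime Q))
    (hrsI : Ideal.ofList rsI = (I₀.map (algebraMap P₀ P)).map (algebraMap P (Localization.AtPrime Q)))
    (hregI : IsRegular (Localization.AtPrime Q) rsI) :
    ∃ k, GenLoc k I₀ (Q.comap (algebraMap P₀ P)) := by
  let q₀ := Q.comap (algebraMap P₀ P)
  let χ : Localization.AtPrime q₀ →+* Localization.AtPrime Q :=
    Localization.localRingHom q₀ Q (algebraMap P₀ P) rfl
  letI := χ.toAlgebra
  haveI : Module.Flat (Localization.AtPrime q₀) (Localization.AtPrime Q) :=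
    RingHom.Flat.localRingHom (RingHom.flat_algebraMap_iff.2 inferInstance) Q q₀ rfl
  haveI : IsLocalHom (algebraMap (Localization.AtPrime q₀) (Localization.AtPrime Q)) :=
    Localization.isLocalHom_localRingHom _ _ _ rfl
  have hmap : (I₀.map (algebraMap P₀ (Localization.AtPrime q₀))).map
      (algebraMap (Localization.AtPrime q₀) (Localization.AtPrime Q)) =
      (I₀.map (algebraMap P₀ P)).map (algebraMap P (Localization.AtPrime Q)) := by
    rw [Ideal.map_map, Ideal.map_map]
    congr 1
    exact RingHom.ext fun x => Localization.localRingHom_to_map q₀ Q _ rfl x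
  obtain ⟨rs₀, hrs₀, hreg₀⟩ := GenReg.exists_regular_of_map
    (I₀.map (algebraMap P₀ (Localization.AtPrime q₀)))
    ((Ideal.map_mono (Ideal.map_le_iff_le_comap.1 hI₀)).trans Localization.AtPrime.map_eq_maximalIdeal.le)
    rsI hregI (hrsI.trans hmap.symm)
  exact GenReg.genLoc_of_regular I₀ q₀ rs₀ hreg₀.toIsWeaklyRegular hrs₀

/-- Finite projective dimension bounds the tor dimension. -/
theorem hasTorDimLE_of_pdle {D : Type u} [CommRing D] [IsNoetherianRing D] :
    ∀ (n : ℕ) (M : Type u) [AddCommGroup M] [Module D M] [Module.Finite D M],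
      Regular.PD.PDle D M n → DRing.HasTorDimLE D n M := by
  intro n
  induction n with
  | zero =>
    intro M _ _ _ h
    rw [Regular.PD.pdle_zero_iff] at h
    exact fun X _ _ p hp => Groth.Agent.Lib.Tor.Module.subsingleton_tor_of_flat_left _ _ _ _ hp
  | succ n ih =>
    intro M _ _ _ h
    obtain ⟨k, f, hf⟩ := Module.Finite.exists_fin' D M
    exact (S7131.hasTorDimLE_succ_iff (LinearMap.ker f).subtype f Subtype.val_injective hf
      (fun z => ⟨fun hz => ⟨⟨z, hz⟩, rfl⟩, fun ⟨z, hz⟩ => hz ▸ z.2⟩) n).2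
      (ih _ ((Regular.PD.pdle_succ_iff hf n).1 h))

/-- Finite modules over regular local rings have finite tor dimension. -/
theorem hasFiniteTorDim_of_regular {D : Type u} [CommRing D] [IsRegularLocalRing D] (M : Type u)
    [AddCommGroup M] [Module D M] [Module.Finite D M] : DRing.HasFiniteTorDim D M :=
  ⟨_, hasTorDimLE_of_pdle _ M (Regular.Serre.pdle_all (R := D) M)⟩

section

variable {R B C : Type u} [CommRing R] [CommRing B] [CommRing C] [Algebra R B] [Algebra B C] [Algebra R C]

/-- The tor dimension hypothesis on a presentation of `C` over `B`. -/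
def FD {n : ℕ} (ψ : MvPolynomial (Fin n) B →ₐ[B] C) : Prop :=
  ∀ (Q' : Ideal (MvPolynomial (Fin n) B)) [Q'.IsPrime] (D : Type u) [CommRing D]
    [Algebra (MvPolynomial (Fin n) B) D] [IsLocalization.AtPrime D Q'],
    RingHom.ker ψ.toRingHom ≤ Q' →
    DRing.HasFiniteTorDim D (D ⊗[MvPolynomial (Fin n) B] (MvPolynomial (Fin n) B ⧸ RingHom.ker ψ.toRingHom))

/-- The tor dimension hypothesis for a perfect map. -/
theorem fd_of_torDim {n : ℕ} (ψ : MvPolynomial (Fin n) B →ₐ[B] C) (hψ : Function.Surjective ψ)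
    (h : DRing.HasFiniteTorDim B C) : FD ψ := by
  intro Q' _ D _ _ _ _
  let T := MvPolynomial (Fin n) B
  let W := T ⧸ RingHom.ker ψ.toRingHom
  let e : W ≃ₐ[B] C := Ideal.quotientKerAlgEquivOfSurjective hψ
  obtain ⟨d, hd⟩ := hasFiniteTorDim_congr e.toLinearEquiv.symm h
  let γ : T →+* W := Ideal.Quotient.mk _
  have h1 : Bdd (flat B) (-(d : ℤ)) 0 (Dual.inD B W) := (TorDim.hasTorDimLE_iff W d).1 hd
  have h2 := H54.TorPoly.bdd_flat_mv γ (ModuleCat.of W W) _ (h1.of_iso
    ((DerivedCategory.singleFunctor _ 0).mapIso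
      (FlatBC.resEquiv B W).toModuleIso).symm)
  have h3 : Bdd (flat T) (-(d : ℤ) - n) 0 (Dual.inD T W) :=
    h2.of_iso ((DerivedCategory.singleFunctor _ 0).mapIso (FlatBC.resEquiv T W).toModuleIso)
  haveI : Module.Flat T D := IsLocalization.flat D Q'.primeCompl
  exact ⟨d + n, (TorDim.hasTorDimLE_iff (D ⊗[T] W) (d + n)).2
    ((FlatBC.bdd_inD (ext_flat _) h3).mono (by omega) le_rfl)⟩

/-- The tor dimension hypothesis over a regular ring. -/
theorem fd_of_regular {n : ℕ} (ψ : MvPolynomial (Fin n) B →ₐ[B] C)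
    (h : ∀ (Q' : Ideal (MvPolynomial (Fin n) B)) [Q'.IsPrime], RingHom.ker ψ.toRingHom ≤ Q' →
      IsRegularLocalRing (Localization.AtPrime Q')) : FD ψ := by
  intro Q' _ D _ _ _ hQ'
  haveI := h Q' hQ'
  haveI : IsLocalRing D := IsLocalization.AtPrime.isLocalRing D Q'
  haveI : IsRegularLocalRing D :=
    IsRegularLocalRing.of_ringEquiv (IsLocalization.algEquiv Q'.primeCompl (Localization.AtPrime Q') D).toRingEquiv
  exact hasFiniteTorDim_of_regular _

variable [IsScalarTower R B C] [IsNoetherianRing R]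

/-- Both factors are complete intersections at a point. -/
theorem local_step (h : LCI.IsLCI R C) {m n : ℕ} (φ₀ : MvPolynomial (Fin m) R →ₐ[R] B)
    (hφ₀ : Function.Surjective φ₀) (ψ : MvPolynomial (Fin n) B →ₐ[B] C) (hψ : Function.Surjective ψ)
    (hfd : FD ψ) (q : Ideal C) [q.IsPrime] :
    (∃ k, GenLoc k (RingHom.ker ψ.toRingHom) (q.comap ψ.toRingHom)) ∧
      ∃ k, GenLoc k (RingHom.ker φ₀.toRingHom) ((q.comap (algebraMap B C)).comap φ₀.toRingHom) := by
  let P₀ := MvPolynomial (Fin m) R
  let P := MvPolynomial (Fin n) P₀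
  let T := MvPolynomial (Fin n) B
  let π : P →+* T := MvPolynomial.map φ₀.toRingHom
  have hπ : Function.Surjective π := MvPolynomial.map_surjective φ₀.toRingHom hφ₀
  let θ : P →ₐ[R] C :=
    { ψ.toRingHom.comp π with
      commutes' := fun r => by
        change ψ (π (algebraMap R P r)) = algebraMap R C r
        rw [IsScalarTower.algebraMap_apply R P₀ P, MvPolynomial.algebraMap_eq, MvPolynomial.map_C,
          IsScalarTower.algebraMap_apply R B C, ← MvPolynomial.algebraMap_eq, ψ.commutes]
        exact congrArg (algebraMap B C) (φ₀.commutes r) }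
  have hθ : Function.Surjective θ := hψ.comp hπ
  let I' : Ideal P := RingHom.ker π
  let J : Ideal P := RingHom.ker θ.toRingHom
  let Q' : Ideal T := q.comap ψ.toRingHom
  let Q : Ideal P := q.comap θ.toRingHom
  have hQQ' : Q = Q'.comap π := rfl
  have hIJ : I' ≤ J := fun x hx => by
    change ψ (π x) = 0
    rw [show π x = 0 from hx, map_zero]
  have hJQ : J ≤ Q := fun x hx => by
    change θ x ∈ q
    rw [show θ x = 0 from hx]
    exact zero_mem _
  -- the kernel of the composite presentation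
  have hJ : LCI.IsKoszulRegularIdeal J := by
    obtain ⟨-, N, f, hf, hI⟩ := h
    haveI : Algebra.Smooth R P₀ := ⟨inferInstance, inferInstance⟩
    haveI : Algebra.Smooth P₀ P := ⟨inferInstance, inferInstance⟩
    haveI : Algebra.Smooth R (MvPolynomial (Fin N) R) := ⟨inferInstance, inferInstance⟩
    haveI : Algebra.Smooth R P := Algebra.Smooth.comp R P₀ P
    exact KRIdeal.isKoszulRegularIdeal_of_presentation f hf θ hθ hI
  obtain ⟨s, hs⟩ := (KRIdeal.isKoszulRegularIdeal_iff J).1 hJ ⟨Q, inferInstance⟩ hJQ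
  have hK : J.map π = RingHom.ker ψ.toRingHom :=
    Ideal.map_comap_of_surjective π hπ (RingHom.ker ψ.toRingHom)
  have hkQ' : RingHom.ker ψ.toRingHom ≤ Q' := fun x hx => by
    change ψ x ∈ q
    rw [show ψ x = 0 from hx]
    exact zero_mem _
  haveI : IsNoetherianRing B := isNoetherianRing_of_surjective P₀ B φ₀.toRingHom hφ₀
  obtain ⟨h₁, rsI, hrsI, hregI⟩ := quotient_step π hπ J hIJ Q' hJQ hs fun D _ _ _ => by
    rw [hK]
    exact hfd Q' D hkQ'
  refine ⟨hK ▸ h₁, ?_⟩
  let q₀ : Ideal P₀ := (q.comap (algebraMap B C)).comap φ₀.toRingHom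
  have hq₀ : (Q'.comap π).comap (algebraMap P₀ P) = q₀ := by
    ext x
    change ψ (π (algebraMap P₀ P x)) ∈ q ↔ algebraMap B C (φ₀ x) ∈ q
    rw [MvPolynomial.algebraMap_eq, MvPolynomial.map_C, ← MvPolynomial.algebraMap_eq, ψ.commutes]
    rfl
  have hI' : RingHom.ker π = (RingHom.ker φ₀.toRingHom).map (algebraMap P₀ P) :=
    MvPolynomial.ker_map φ₀.toRingHom
  have := descend_step (RingHom.ker φ₀.toRingHom) (Q'.comap π) (hI' ▸ hIJ.trans hJQ) rsI
    (hI' ▸ hrsI) hregI
  rwa [hq₀] at this

/-- The second factor is a local complete intersection. -/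
theorem isLCI_top (h : LCI.IsLCI R C) {m n : ℕ} (φ₀ : MvPolynomial (Fin m) R →ₐ[R] B)
    (hφ₀ : Function.Surjective φ₀) (ψ : MvPolynomial (Fin n) B →ₐ[B] C) (hψ : Function.Surjective ψ)
    (hfd : FD ψ) : LCI.IsLCI B C := by
  refine ⟨Algebra.FiniteType.iff_quotient_mvPolynomial''.2 ⟨n, ψ, hψ⟩, n, ψ, hψ,
    (KRIdeal.isKoszulRegularIdeal_iff _).2 fun P hP => ?_⟩
  haveI := P.isPrime
  haveI : (P.asIdeal.map ψ.toRingHom).IsPrime := Ideal.map_isPrime_of_surjective hψ hP
  have hc : (P.asIdeal.map ψ.toRingHom).comap ψ.toRingHom = P.asIdeal :=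
    (Ideal.comap_map_of_surjective ψ.toRingHom hψ P.asIdeal).trans (sup_eq_left.2 hP)
  have := (local_step h φ₀ hφ₀ ψ hψ hfd (P.asIdeal.map ψ.toRingHom)).1
  rwa [hc] at this

end

end Groth.Agent.H56.LCI.Cancel
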