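import Groth.Agent.Lib.Synt92.KRDescent
import Groth.Agent.Lib.Wiebe.AcycRegular
import Groth.Agent.Lib.Depth.Basic
import Groth.Agent.H26.CISpread

/-!
Regular sequences in a Noetherian local ring and Koszul-regular generators near a prime.
-/

set_option autoImplicit false
set_option linter.style.haveILetI false

universe u

open RingTheory.Sequence IsLocalRing
open Groth.Agent.Lib.Synt92 Groth.Agent.Lib.Synt92.KRLoc Groth.Agent.Lib.Wiebe.Link

namespace Groth.Agent.H56.LCI.GenReg

/-- Koszul-regular generators in a Noetherian local ring form a regular sequence. -/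
theorem exists_regular_of_gen {L : Type u} [CommRing L] [IsLocalRing L] [IsNoetherianRing L] {m : ℕ}
    {K : Ideal L} (hK : K ≤ maximalIdeal L) (h : Gen m K) :
    ∃ rs : List L, Ideal.ofList rs = K ∧ IsRegular L rs := by
  obtain ⟨f, hf, rfl⟩ := h
  have hfm : ∀ i, f i ∈ maximalIdeal L := fun i => hK (Ideal.subset_span ⟨i, rfl⟩)
  refine ⟨(List.ofFn f).reverse, ?_, ?_⟩
  · rw [Ideal.ofList]
    congr 1
    ext x
    simp [List.mem_ofFn]
  · refine Groth.Agent.Lib.Depth.Basic.isRegular_of_mem (I := maximalIdeal L)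
      (Groth.Agent.Lib.Depth.Basic.smul_top_ne_top (maximalIdeal.isMaximal L).ne_top)
      (Lib.Wiebe.AcycRegular.isWeaklyRegular_reverse f hf fun i =>
        maximalIdeal_le_jacobson _ (hfm i)) fun x hx => ?_
    obtain ⟨i, rfl⟩ := List.mem_ofFn.1 (List.mem_reverse.1 hx)
    exact hfm i

/-- Koszul-regular generators near a prime give a regular sequence in the local ring. -/
theorem exists_regular_of_genLoc {P : Type u} [CommRing P] [IsNoetherianRing P] {I Q : Ideal P}
    [Q.IsPrime] (hIQ : I ≤ Q) {m : ℕ} (h : GenLoc m I Q) :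
    ∃ rs : List (Localization.AtPrime Q),
      Ideal.ofList rs = I.map (algebraMap P (Localization.AtPrime Q)) ∧
        IsRegular (Localization.AtPrime Q) rs := by
  obtain ⟨g, hg, hgen⟩ := h
  haveI : Module.Flat P (Localization.AtPrime Q) := IsLocalization.flat _ Q.primeCompl
  refine exists_regular_of_gen ?_ (gen_of_isUnit g (Localization.Away g) hgen (Localization.AtPrime Q)
    (IsLocalization.map_units _ (⟨g, hg⟩ : Q.primeCompl)))
  exact (Ideal.map_mono hIQ).trans Localization.AtPrime.map_eq_maximalIdeal.le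

/-- Numerators of a sequence in the local ring. -/
theorem exists_numerators {P : Type u} [CommRing P] (Q : Ideal P) [Q.IsPrime] (I : Ideal P)
    (rs : List (Localization.AtPrime Q)) (hreg : IsWeaklyRegular (Localization.AtPrime Q) rs)
    (hrs : Ideal.ofList rs = I.map (algebraMap P (Localization.AtPrime Q))) :
    ∃ fs : List P, (∀ x ∈ fs, x ∈ I) ∧
      IsWeaklyRegular (Localization.AtPrime Q) (fs.map (algebraMap P (Localization.AtPrime Q))) ∧
      Ideal.ofList (fs.map (algebraMap P (Localization.AtPrime Q))) = Ideal.ofList rs := by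
  classical
  have hnum : ∀ r ∈ rs, ∃ b : P, b ∈ I ∧ ∃ u : Localization.AtPrime Q, IsUnit u ∧
      algebraMap P (Localization.AtPrime Q) b = u * r := fun r hr => by
    have : r ∈ I.map (algebraMap P (Localization.AtPrime Q)) := hrs ▸ Ideal.subset_span hr
    obtain ⟨⟨a, s⟩, e⟩ := (IsLocalization.mem_map_algebraMap_iff Q.primeCompl _).mp this
    exact ⟨a, a.2, _, IsLocalization.map_units _ s, by rw [mul_comm]; exact e.symm⟩
  choose! b hbI u hu hbu using hnum
  have hfs : (rs.map b).map (algebraMap P (Localization.AtPrime Q)) = rs.map fun r => u r * r := by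
    rw [List.map_map]; exact List.map_congr_left hbu
  refine ⟨rs.map b, fun x hx => ?_, ?_, ?_⟩
  · obtain ⟨r, hr, rfl⟩ := List.mem_map.1 hx
    exact hbI r hr
  · let v : Localization.AtPrime Q → Localization.AtPrime Q := fun r => if r ∈ rs then u r else 1
    rw [hfs, show rs.map (fun r => u r * r) = rs.map (fun r => v r * r) from
      List.map_congr_left fun r hr => by simp [v, hr]]
    exact (Groth.Agent.H26.FibreRegStalk.weaklyRegular_of_unit_mul _ rs v (fun r => by
      by_cases hr : r ∈ rs <;> simp [v, hr, hu])).mpr hreg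
  · rw [hfs]
    refine le_antisymm (Ideal.span_le.mpr fun z hz => ?_) (Ideal.span_le.mpr fun r hr => ?_)
    · obtain ⟨r, hr, rfl⟩ := List.mem_map.mp hz
      exact Ideal.mul_mem_left _ _ (Ideal.subset_span hr)
    · exact (Ideal.unit_mul_mem_iff_mem _ (hu r hr)).mp
        (Ideal.subset_span (List.mem_map.mpr ⟨r, hr, rfl⟩))

/-- A regular sequence generating the localised ideal gives Koszul-regular generators nearby. -/
theorem genLoc_of_regular {P : Type u} [CommRing P] [IsNoetherianRing P] (I Q : Ideal P) [Q.IsPrime]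
    (rs : List (Localization.AtPrime Q)) (hreg : IsWeaklyRegular (Localization.AtPrime Q) rs)
    (hrs : Ideal.ofList rs = I.map (algebraMap P (Localization.AtPrime Q))) :
    ∃ m, GenLoc m I Q := by
  classical
  obtain ⟨fs, hfI, hfreg, hfspan⟩ := exists_numerators Q I rs hreg hrs
  obtain ⟨g₁, hg₁, hg₁'⟩ := H26.CISpread.exists_weaklyRegular_nhd Q fs hfreg
  obtain ⟨s, hsI⟩ := I.fg_of_isNoetherianRing
  have hex : ∀ z ∈ s, ∃ t ∉ Q, t * z ∈ Ideal.span (Set.range fs.get) := fun z hz => by
    refine (H26.CISpread.mem_map_iff Q _ z).mp ?_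
    rw [Set.range_list_get]
    change _ ∈ Ideal.map _ (Ideal.ofList fs)
    rw [Ideal.map_ofList, hfspan, hrs]
    exact Ideal.mem_map_of_mem _ (hsI.le (Submodule.subset_span hz))
  choose! t ht htz using hex
  let g₂ := ∏ z ∈ s, t z
  have hg₂ : g₂ ∉ Q := fun hm => by
    obtain ⟨z, hz, hzp⟩ := Ideal.IsPrime.prod_mem_iff.mp hm
    exact ht z hz hzp
  have hgen : ∀ x ∈ I, g₂ * x ∈ Ideal.span (Set.range fs.get) := by
    have : I ≤ (Ideal.span (Set.range fs.get)).colon {g₂} := by
      rw [← hsI]
      refine Submodule.span_le.2 fun z hz => ?_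
      rw [SetLike.mem_coe, Submodule.mem_colon_singleton, smul_eq_mul, mul_comm]
      exact Ideal.mem_of_dvd _ (mul_dvd_mul_right (Finset.dvd_prod_of_mem t hz) _) (htz z hz)
    intro x hx
    have h := this hx
    rwa [Submodule.mem_colon_singleton, smul_eq_mul, mul_comm] at h
  let h := g₁ * g₂
  let S := Localization.Away h
  haveI : Module.Flat P S := IsLocalization.flat S (Submonoid.powers h)
  have hu := IsLocalization.Away.algebraMap_isUnit (S := S) h
  rw [map_mul, IsUnit.mul_iff] at hu
  refine ⟨fs.length, h, fun hm => (Ideal.IsPrime.mem_or_mem ‹_› hm).elim hg₁ hg₂,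
    algebraMap P S ∘ fs.get, ?_,
    KRDescent.map_span_eq_map fs.get (fun i => hfI _ (List.get_mem fs i)) hgen _ hu.2⟩
  refine KRDescent.acyc_of_local _ fun p hp => ?_
  refine (KRDescent.acyc_localization_iff fs.get p).2 (CubeBase.acyc_of_isWeaklyRegular _ ?_)
  rw [← List.map_ofFn, List.ofFn_get]
  refine hg₁' _ fun hm => ?_
  exact hp.ne_top (Ideal.eq_top_of_isUnit_mem _ hm hu.1)

/-- Regular generators descend along a flat local map of local rings. -/
theorem exists_regular_of_map {A B : Type u} [CommRing A] [IsLocalRing A] [IsNoetherianRing A]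
    [CommRing B] [IsLocalRing B] [Algebra A B] [Module.Flat A B] [IsLocalHom (algebraMap A B)]
    (K : Ideal A) (hK : K ≤ maximalIdeal A) (rs : List B) (hreg : IsRegular B rs)
    (hrs : Ideal.ofList rs = K.map (algebraMap A B)) :
    ∃ rs' : List A, Ideal.ofList rs' = K ∧ IsRegular A rs' := by
  haveI := Module.FaithfullyFlat.of_flat_of_isLocalHom (A := A) (B := B)
  have hgen : Gen rs.length (K.map (algebraMap A B)) :=
    ⟨rs.get, CubeBase.acyc_of_isWeaklyRegular _ (by rw [List.ofFn_get]; exact hreg.toIsWeaklyRegular),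
      by rw [span_range_eq_ofList, List.ofFn_get, hrs]⟩
  obtain ⟨m, g, hg, hm⟩ := KRDescent.exists_genLoc (A := A) (B := B) (I := K)
    (fun Q _ => haveI := Q.isPrime; ⟨rs.length, genLoc_of_gen hgen Q.asIdeal⟩)
    ⟨maximalIdeal A, inferInstance⟩ hK
  have h := gen_of_isUnit g (Localization.Away g) hm A (by
    rw [Algebra.algebraMap_self, RingHom.id_apply]
    exact IsLocalRing.notMem_maximalIdeal.1 hg)
  rw [Algebra.algebraMap_self, Ideal.map_id] at h
  exact exists_regular_of_gen hK h

end Groth.Agent.H56.LCI.GenReg
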