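import Groth.Agent.H56.LCI.Cancel
import Groth.Agent.H68.LCIBridge
import Groth.Agent.Lib.Synt92.LciScheme
import Groth.Prelude.Def_MoreMor

/-!
Cancellation of local complete intersection morphisms along perfect morphisms.
-/

set_option autoImplicit false
set_option linter.style.haveILetI false

universe u

open CategoryTheory Limits AlgebraicGeometry
open Groth.Agent.Lib Groth.Agent.Lib.Synt92

namespace Groth.Agent.H56.LCI.Sch

/-- Koszul regular generators at a point of a closed chart give a Koszul point. -/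
theorem isKoszulAt_of_atN {Y P S : Scheme.{u}} (g : Y ⟶ S) [LocallyOfFiniteType g] (i : Y ⟶ P)
    [IsImmersion i] (π : P ⟶ S) [Smooth π] (hfac : i ≫ π = g) (y : Y) {k : ℕ}
    (h : KRImm.AtN k i y) : Synt.IsKoszulAt g y := by
  obtain ⟨UP, hyU, hcl, rs, hlen, hrs, hker⟩ := h
  refine ⟨i ⁻¹ᵁ UP.1, P, (i ⁻¹ᵁ UP.1).ι ≫ i, π, hyU, inferInstance,
    (KRImm.isRegularImmersion_iff _).2 ⟨inferInstance, fun z => ⟨k, ?_⟩⟩, inferInstance,
    by rw [Category.assoc, hfac]⟩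
  exact (KRMor.atN_open_iff i (i ⁻¹ᵁ UP.1) z k).2 ⟨UP, z.2, hcl, rs, hlen, hrs, hker⟩

/-- Both factors of a local complete intersection composite with perfect first factor are Koszul. -/
theorem koszul_of_perfect {X Y S : Scheme.{u}} (f : X ⟶ Y) (g : Y ⟶ S) [IsLocallyNoetherian S]
    [LocallyOfFiniteType g] (hf : MoreMor.IsPerfectMor f) (h : ∀ x : X, Synt.IsKoszulAt (f ≫ g) x) :
    (∀ x : X, Synt.IsKoszulAt f x) ∧ ∀ x : X, Synt.IsKoszulAt g (f x) := by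
  haveI := KRMorDescent.locallyOfFiniteType_of_koszulAt (f ≫ g) h
  haveI : LocallyOfFiniteType f := locallyOfFiniteType_of_comp f g
  suffices H : ∀ x : X, Synt.IsKoszulAt f x ∧ Synt.IsKoszulAt g (f x) from
    ⟨fun x => (H x).1, fun x => (H x).2⟩
  intro x
  obtain ⟨V, hV, hxV, -⟩ := exists_isAffineOpen_mem_and_subset (X := S) (x := g (f x)) (U := ⊤) trivial
  obtain ⟨W, hW, hxW, hWV⟩ := exists_isAffineOpen_mem_and_subset (x := f x) (U := g ⁻¹ᵁ V) hxV
  obtain ⟨U, hU, hxU, hUW⟩ := exists_isAffineOpen_mem_and_subset (x := x) (U := f ⁻¹ᵁ W) hxW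
  have hUV : U ≤ (f ≫ g) ⁻¹ᵁ V := fun z hz => hWV (hUW hz)
  have hcomp : g.appLE V W hWV ≫ f.appLE W U hUW = (f ≫ g).appLE V U hUV :=
    Scheme.Hom.appLE_comp_appLE f g V W U hWV hUW
  letI : Algebra Γ(S, V) Γ(Y, W) := (g.appLE V W hWV).hom.toAlgebra
  letI : Algebra Γ(Y, W) Γ(X, U) := (f.appLE W U hUW).hom.toAlgebra
  letI : Algebra Γ(S, V) Γ(X, U) := ((f ≫ g).appLE V U hUV).hom.toAlgebra
  haveI : IsScalarTower Γ(S, V) Γ(Y, W) Γ(X, U) :=
    IsScalarTower.of_algebraMap_eq' (congrArg CommRingCat.Hom.hom hcomp).symm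
  haveI : IsNoetherianRing Γ(S, V) := IsLocallyNoetherian.component_noetherian ⟨V, hV⟩
  haveI : Algebra.FiniteType Γ(S, V) Γ(Y, W) := g.finiteType_appLE hV hW hWV
  haveI : Algebra.FiniteType Γ(Y, W) Γ(X, U) := f.finiteType_appLE hW hU hUW
  have hlci : LCI.IsLCI Γ(S, V) Γ(X, U) :=
    (H68.LCIBridge.isLCI_appLE_iff (f ≫ g) hU hV hUV).2 fun z _ => h z
  obtain ⟨m, φ₀, hφ₀⟩ := Algebra.FiniteType.iff_quotient_mvPolynomial''.1
    (inferInstance : Algebra.FiniteType Γ(S, V) Γ(Y, W))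
  obtain ⟨n, ψ, hψ⟩ := Algebra.FiniteType.iff_quotient_mvPolynomial''.1
    (inferInstance : Algebra.FiniteType Γ(Y, W) Γ(X, U))
  have hfd : Cancel.FD ψ := Cancel.fd_of_torDim ψ hψ (hf U W hU hW hUW).2
  refine ⟨(H68.LCIBridge.isLCI_appLE_iff f hU hW hUW).1
    (Cancel.isLCI_top hlci φ₀ hφ₀ ψ hψ hfd) x hxU, ?_⟩
  obtain ⟨k, hk⟩ := (Cancel.local_step hlci φ₀ hφ₀ ψ hψ hfd (hU.primeIdealOf ⟨x, hxU⟩).asIdeal).2
  let A := MvPolynomial (Fin m) Γ(S, V)
  haveI : Algebra.Smooth Γ(S, V) A := ⟨inferInstance, inferInstance⟩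
  let φc : CommRingCat.of A ⟶ Γ(Y, W) := CommRingCat.ofHom φ₀.toRingHom
  let i : (W : Scheme.{u}) ⟶ Spec (CommRingCat.of A) := hW.isoSpec.hom ≫ Spec.map φc
  let π : Spec (CommRingCat.of A) ⟶ S :=
    Spec.map (CommRingCat.ofHom (algebraMap Γ(S, V) A)) ≫ hV.fromSpec
  haveI : Smooth (Spec.map (CommRingCat.ofHom (algebraMap Γ(S, V) A))) := by
    rw [HasRingHomProperty.Spec_iff (P := @Smooth)]
    exact RingHom.smooth_algebraMap.2 ‹_›
  haveI : IsClosedImmersion (Spec.map φc) := IsClosedImmersion.spec_of_surjective _ hφ₀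
  have hfac : i ≫ π = W.ι ≫ g := by
    rw [← KRCover.fromSpec_comp g hV hW hWV, Category.assoc, ← Spec.map_comp_assoc]
    congr 3
    exact CommRingCat.hom_ext (RingHom.ext fun r => φ₀.commutes r)
  let w : (W : Scheme.{u}) := ⟨f x, hxW⟩
  have hq : (hW.primeIdealOf w).asIdeal =
      (hU.primeIdealOf ⟨x, hxU⟩).asIdeal.comap (algebraMap Γ(Y, W) Γ(X, U)) := by
    ext a
    exact (KRImm.mem_prime_app_iff f hW hU hUW x hxU a).symm
  have hat : KRImm.AtN k i w := by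
    refine (KRMor.atN_openImmersion_iff (Spec.map φc) hW.isoSpec.hom w k).2 ?_
    refine (KRSpec.atN_specMap_iff φc hφ₀ _ k).2 ?_
    change KRLoc.GenLoc k _ ((hW.primeIdealOf w).asIdeal.comap φ₀.toRingHom)
    rw [hq]
    exact hk
  exact LciScheme.isKoszulAt_of_openImmersion W.ι g w (isKoszulAt_of_atN (W.ι ≫ g) i π hfac w hat)

end Groth.Agent.H56.LCI.Sch
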